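import Cfsg.Agent.Lib.HeldFi24x99.Words
import Cfsg.Agent.Lib.Fi24.Points

/-!
The relators of He, read in the twelve letters, fix the twelve node points of the table of Fi24.
-/

set_option autoImplicit false
set_option maxRecDepth 20000

namespace Cfsg.Agent.Lib.HeldFi24x99

open Cfsg.Agent.Lib.Fi24 (table)
open Cfsg.Agent.Lib.CosetEnum (force)

/-- Whether a word fixes the node points. -/
noncomputable def fixesNodes (l : List ℕ) : Bool :=
  nodeW.all fun u => force (Fi24.Cert.scanT table u 0) fun i => Nat.beq (Fi24.Cert.scanT table l i) i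

/-- The word of a power of a product of generators. -/
def powW (l : List Cfsg.Spor.He.Gen) (n : ℕ) : List ℕ := (List.replicate n (l.flatMap genW)).flatten

theorem gen_lt : ∀ x : Cfsg.Spor.He.Gen, ∀ g ∈ genW x, g < 12 := by
  intro x; cases x <;> decide +kernel

theorem node_lt : ∀ u ∈ nodeW, ∀ g ∈ u, g < 12 := by decide +kernel

theorem cox_ok : ∀ x y : Cfsg.Spor.He.Gen,
    fixesNodes (powW [x, y] (Cfsg.Spor.coxLabel Cfsg.Spor.He.edges x y)) = true := by
  intro x y; cases x <;> cases y <;> decide +kernel

theorem efg_ok : fixesNodes (powW [.e] 1 ++ powW [.f, .g] 2) = true := by decide +kernel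

theorem eabc_ok : fixesNodes (powW [.e] 1 ++ powW [.a, .b, .c] 3) = true := by decide +kernel

theorem acd_ok : fixesNodes (powW [.a] 1 ++ powW [.c, .d] 5) = true := by decide +kernel

theorem cdfg_ok : fixesNodes (powW [.c, .d, .f, .g] 4) = true := by decide +kernel

theorem a_moves : Nat.beq (Fi24.Cert.scanT table (genW .a) 0) 0 = false := by decide +kernel

end Cfsg.Agent.Lib.HeldFi24x99
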