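import Cfsg.Agent.Lib.HeldFi24x99.Checks
import Cfsg.Agent.Lib.Fi24.Simple
import Cfsg.Agent.S1695

/-!
He inside the presented Fi24: the seven words define a monomorphism.
-/

set_option autoImplicit false
set_option maxRecDepth 20000

namespace Cfsg.Agent.Lib.HeldFi24x99

open Cfsg.Agent.Lib.Fi24
open Cfsg.Agent.Lib.CosetEnum (force_eq)

attribute [local irreducible] Fi24.table

/-- The product of a word. -/
noncomputable def wp (l : List ℕ) : Fi24.G := (l.map xg).prod

theorem wp_append (l m : List ℕ) : wp (l ++ m) = wp l * wp m := by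
  rw [wp, wp, wp, List.map_append, List.prod_append]

theorem l_central {x : Fi24.G} (hx : x ∈ H) : Commute x (xg 0) := by
  refine Subgroup.closure_induction ?_ (Commute.one_left _) (fun a b _ _ ha hb => ha.mul_left hb)
    (fun a _ ha => ha.inv_left) hx
  rintro _ ⟨g, hg, hg1, rfl⟩
  by_cases hg0 : g = 0
  · subst hg0; exact Commute.refl _
  have h := xg_pow hg (show 0 < 12 by omega)
  have hj : joined g 0 = false :=
    (show ∀ g < 12, g ≠ 0 → g ≠ 1 → joined g 0 = false by decide +kernel) g hg hg0 hg1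
  rw [if_neg hg0, hj, if_neg (by decide : ¬ (false = true)), sq] at h
  show xg g * xg 0 = xg 0 * xg g
  calc xg g * xg 0 = (xg g * xg 0)⁻¹ := eq_inv_of_mul_eq_one_left h
    _ = _ := by rw [mul_inv_rev, xg_inv hg, xg_inv (show 0 < 12 by omega)]

theorem step_node {u : List ℕ} {x y : ℕ} (hx : x < 12) (hy : y < 12) (hxy : x ≠ y) (hj : joined y x = true)
    (h : (wp u)⁻¹ * xg 0 * wp u = xg x) : (wp (u ++ [y, x]))⁻¹ * xg 0 * wp (u ++ [y, x]) = xg y := by
  have h3 := xg_pow hy hx
  rw [if_neg hxy.symm, if_pos hj] at h3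
  rw [wp_append, mul_inv_rev, show (wp [y, x])⁻¹ * (wp u)⁻¹ * xg 0 * (wp u * wp [y, x]) =
    (wp [y, x])⁻¹ * ((wp u)⁻¹ * xg 0 * wp u) * wp [y, x] by group, h]
  simp only [wp, List.map_cons, List.map_nil, List.prod_cons, List.prod_nil, mul_one, mul_inv_rev,
    xg_inv hx, xg_inv hy]
  have e2 : (xg y * xg x * xg y * xg x) * (xg y * xg x) = 1 := by
    rw [← h3]; simp [pow_succ, mul_assoc]
  calc xg x * xg y * xg x * (xg y * xg x) = xg x * (xg y * xg x * xg y * xg x) := by simp [mul_assoc]
    _ = xg x * (xg y * xg x)⁻¹ := by rw [eq_inv_of_mul_eq_one_left e2]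
    _ = xg y := by
      rw [mul_inv_rev, xg_inv hx, xg_inv hy, ← mul_assoc, xg_sq hx, one_mul]

theorem node_facts : ∀ y < 12, (nodeW.getD y [] ∈ nodeW) ∧
    (wp (nodeW.getD y []))⁻¹ * xg 0 * wp (nodeW.getD y []) = xg y := by
  have tree : ∀ y < 12, y = 0 ∨ ∃ x < y, joined y x = true ∧
      nodeW.getD y [] = nodeW.getD x [] ++ [y, x] := by decide +kernel
  intro y hy
  refine ⟨(show ∀ y < 12, nodeW.getD y [] ∈ nodeW by decide +kernel) y hy, ?_⟩
  induction y using Nat.strong_induction_on with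
  | _ y ih =>
    rcases tree y hy with rfl | ⟨x, hx, hj, he⟩
    · simp [nodeW, wp]
    · rw [he]
      exact step_node (by omega) hy (by omega) hj (ih x hx (by omega))

theorem center_eq_bot (F : GFacts) : Subgroup.center Fi24.G = ⊥ := by
  rw [eq_bot_iff]
  intro z hz
  have hc : ∀ x, x * z = z * x := Subgroup.mem_center_iff.mp hz
  have hz0 : F.act z pt0 = pt0 := by
    by_contra hne
    rcases F.cases {pt0, F.act z pt0} (Set.mem_insert _ _) (fun x hx i hi => by
      rcases hi with rfl | rfl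
      · rw [(F.stab x).1 hx]; exact Set.mem_insert _ _
      · rw [← Equiv.Perm.mul_apply, ← map_mul, hc, map_mul, Equiv.Perm.mul_apply, (F.stab x).1 hx]
        exact Set.mem_insert_of_mem _ rfl) with h | h | h | h
    all_goals first
      | (have hp := Set.ncard_pair (Ne.symm hne); omega)
      | (have hp := Set.ncard_pair (Ne.symm hne); rw [h, Set.ncard_univ, Nat.card_eq_fintype_card, Fintype.card_fin] at hp;
         omega)
  rw [Subgroup.mem_bot]
  apply F.inj
  rw [map_one]
  ext i
  obtain ⟨x, rfl⟩ := F.trans i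
  rw [← Equiv.Perm.mul_apply, ← map_mul, ← hc, map_mul, Equiv.Perm.mul_apply, hz0]
  rfl

theorem wp_eq_one (hC : CosetAction) (F : GFacts) {l : List ℕ} (hl : ∀ g ∈ l, g < 12)
    (h : fixesNodes l = true) : wp l = 1 := by
  obtain ⟨ρ, hscan, hst, -, -⟩ := hC
  rw [fixesNodes, List.all_eq_true] at h
  have hmem : wp l ∈ Subgroup.center Fi24.G := by
    rw [Subgroup.mem_center_iff]
    suffices hg : ∀ y < 12, Commute (xg y) (wp l) by
      intro x
      have hx : x ∈ Subgroup.closure {x : Fi24.G | ∃ g < 12, xg g = x} := gen_closure ▸ Subgroup.mem_top x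
      refine Subgroup.closure_induction (p := fun x _ => Commute x (wp l)) ?_ (Commute.one_left _)
        (fun a b _ _ ha hb => ha.mul_left hb) (fun a _ ha => ha.inv_left) hx
      rintro _ ⟨g, hg', rfl⟩
      exact hg g hg'
    intro y hy
    obtain ⟨hu, hnode⟩ := node_facts y hy
    set u := nodeW.getD y []
    have hfix := h u hu
    rw [force_eq, Nat.beq_eq] at hfix
    have hult := node_lt u hu
    let i0 : Fin 306936 := ⟨0, by omega⟩
    have h1 : (ρ (wp l))⁻¹ ((ρ (wp u))⁻¹ i0) = (ρ (wp u))⁻¹ i0 := by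
      apply Fin.ext
      rw [wp, hscan l hl, wp, hscan u hult]
      exact hfix
    have h2 : wp u * wp l * (wp u)⁻¹ ∈ H := by
      rw [hst, map_mul, map_mul, map_inv, Equiv.Perm.mul_apply, Equiv.Perm.mul_apply]
      show ρ (wp u) (ρ (wp l) ((ρ (wp u))⁻¹ i0)) = i0
      conv_lhs => rw [← h1, Equiv.Perm.inv_def, Equiv.apply_symm_apply]
      rw [Equiv.Perm.inv_def, Equiv.apply_symm_apply]
    have h3 : wp u * wp l * (wp u)⁻¹ * xg 0 = xg 0 * (wp u * wp l * (wp u)⁻¹) := (l_central h2).eq
    rw [← hnode]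
    show (wp u)⁻¹ * xg 0 * wp u * wp l = wp l * ((wp u)⁻¹ * xg 0 * wp u)
    calc (wp u)⁻¹ * xg 0 * wp u * wp l
        = (wp u)⁻¹ * (xg 0 * (wp u * wp l * (wp u)⁻¹)) * wp u := by group
      _ = (wp u)⁻¹ * (wp u * wp l * (wp u)⁻¹ * xg 0) * wp u := by rw [h3]
      _ = _ := by group
  rwa [center_eq_bot F, Subgroup.mem_bot] at hmem

/-- The images of the generators of He. -/
noncomputable def img (x : Cfsg.Spor.He.Gen) : Fi24.G := wp (genW x)

theorem powW_lt (l : List Cfsg.Spor.He.Gen) (n : ℕ) : ∀ g ∈ powW l n, g < 12 := by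
  intro g hg
  simp only [powW, List.mem_flatten, List.mem_replicate, List.mem_flatMap] at hg
  obtain ⟨m, ⟨-, rfl⟩, hg⟩ := hg
  obtain ⟨x, -, hx⟩ := List.mem_flatMap.1 hg
  exact gen_lt x g hx

theorem wp_powW (l : List Cfsg.Spor.He.Gen) (n : ℕ) : wp (powW l n) = (l.map img).prod ^ n := by
  rw [wp, powW, prod_replicate]
  congr 1
  induction l with
  | nil => simp
  | cons a l ih => rw [List.flatMap_cons, List.map_append, List.prod_append, ih, List.map_cons, List.prod_cons]; rfl

theorem exists_hom (hC : CosetAction) (F : GFacts) :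
    ∃ f : Cfsg.Spor.He →* Fi24.G, Function.Injective f := by
  have h2 : ∀ l m : List Cfsg.Spor.He.Gen, ∀ n k, fixesNodes (powW l n ++ powW m k) = true →
      (l.map img).prod ^ n * (m.map img).prod ^ k = 1 := fun l m n k h => by
    rw [← wp_powW, ← wp_powW, ← wp_append]
    exact wp_eq_one hC F (fun g hg => (List.mem_append.1 hg).elim (powW_lt l n g) (powW_lt m k g)) h
  have h1 : ∀ l : List Cfsg.Spor.He.Gen, ∀ n, fixesNodes (powW l n) = true → (l.map img).prod ^ n = 1 :=
    fun l n h => by rw [← wp_powW]; exact wp_eq_one hC F (powW_lt l n) h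
  have hinv : ∀ x, img x * img x = 1 := fun x => by
    have := h1 [x, x] _ (cox_ok x x)
    simpa [Cfsg.Spor.coxLabel] using this
  have hr : ∀ r ∈ Cfsg.Spor.coxRelators Cfsg.Spor.He.edges ∪ {r | r ∈ Cfsg.Spor.He.extra},
      FreeGroup.lift img r = 1 := by
    rintro r (⟨x, -, y, -, rfl⟩ | hr)
    · simpa using h1 [x, y] _ (cox_ok x y)
    · simp only [Cfsg.Spor.He.extra, Set.mem_ofPred_eq, List.mem_cons, List.not_mem_nil, or_false] at hr
      have he : (img .e)⁻¹ = img .e := inv_eq_of_mul_eq_one_right (hinv _)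
      have ha : (img .a)⁻¹ = img .a := inv_eq_of_mul_eq_one_right (hinv _)
      rcases hr with rfl | rfl | rfl | rfl <;>
        simp only [map_mul, map_inv, map_pow, FreeGroup.lift_apply_of]
      · have := h2 [.e] [.f, .g] 1 2 efg_ok
        simp only [List.map_cons, List.map_nil, List.prod_cons, List.prod_nil, mul_one, pow_one] at this
        rw [← eq_inv_of_mul_eq_one_left this, hinv]
      · have := h2 [.e] [.a, .b, .c] 1 3 eabc_ok
        simp only [List.map_cons, List.map_nil, List.prod_cons, List.prod_nil, mul_one, pow_one, ← mul_assoc] at this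
        rw [← eq_inv_of_mul_eq_one_left this, hinv]
      · have := h2 [.a] [.c, .d] 1 5 acd_ok
        simp only [List.map_cons, List.map_nil, List.prod_cons, List.prod_nil, mul_one, pow_one] at this
        rw [← eq_inv_of_mul_eq_one_left this, hinv]
      · simpa [mul_assoc] using h1 [.c, .d, .f, .g] 4 cdfg_ok
  let f : Cfsg.Spor.He →* Fi24.G := PresentedGroup.toGroup hr
  refine ⟨f, ?_⟩
  have : IsSimpleGroup Cfsg.Spor.He := Cfsg.Agent.S1695.result.1
  rw [← MonoidHom.ker_eq_bot_iff]
  rcases (MonoidHom.normal_ker f).eq_bot_or_eq_top with h | h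
  · exact h
  · exfalso
    have ha : f (PresentedGroup.of .a) = 1 := by
      rw [← MonoidHom.mem_ker, h]; exact Subgroup.mem_top _
    rw [show f (PresentedGroup.of .a) = img .a from PresentedGroup.toGroup.of hr] at ha
    obtain ⟨ρ, hscan, -⟩ := hC
    have hs := hscan (genW .a) (gen_lt .a) ⟨0, by omega⟩
    rw [show ((genW .a).map xg).prod = img .a from rfl, ha, map_one, inv_one, Equiv.Perm.one_apply] at hs
    have hm := a_moves
    rw [← hs] at hm
    exact absurd hm (by decide)

end Cfsg.Agent.Lib.HeldFi24x99
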