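import Cfsg.Agent.Lib.HeldFi24x99.Hom
import Cfsg.Agent.Lib.Fi24.Main

/-!
A group isomorphic to the presented Fi24 has a subgroup isomorphic to He.
-/

set_option autoImplicit false

namespace Cfsg.Agent.Lib.HeldFi24x99

theorem exists_held {K : Type*} [Group K] (e : Cfsg.Spor.Fi24 ≃* K) : ∃ H : Subgroup K, Cfsg.Spor.IsoHe ↥H := by
  obtain ⟨F⟩ := Fi24.nonempty_gFacts
  obtain ⟨f, hf⟩ := exists_hom Fi24.cosetAction F
  exact ⟨(e.toMonoidHom.comp f).range,
    ⟨(MonoidHom.ofInjective (f := e.toMonoidHom.comp f) (e.injective.comp hf)).symm⟩⟩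

end Cfsg.Agent.Lib.HeldFi24x99
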