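import Cfsg.Prelude.Def_Spor_He

/-!
Words in the twelve letters of the presented Fi24 for seven involutions satisfying the relations of He,
found by computer: He is generated by 7:3 x L3(2) and a Sylow 7-subgroup.
-/

set_option autoImplicit false

namespace Cfsg.Agent.Lib.HeldFi24x99

/-- The word for the generator `a`: a product of commuting transpositions. -/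
def aW : List ℕ := [
  10, 7, 5, 6, 4, 5, 10, 7, 8, 6, 7, 4, 5, 6, 3, 4, 5, 10, 11, 8, 7, 6, 3, 4, 5, 10, 9, 8, 7, 6,
  5, 4, 3, 2, 1, 0, 1, 2, 3, 4, 5, 6, 7, 8, 9, 10, 5, 4, 3, 6, 7, 8, 11, 10, 5, 4, 3, 6, 5, 4,
  7, 6, 8, 7, 10, 5, 4, 6, 5, 7, 10, 11, 5, 10, 8, 6, 7, 2, 3, 4, 5, 6, 1, 2, 3, 4, 5, 10, 11, 8,
  7, 4, 5, 6, 3, 4, 5, 10, 9, 8, 7, 6, 5, 4, 3, 2, 0, 1, 0, 1, 0, 2, 3, 4, 5, 6, 7, 8, 9, 10,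
  5, 4, 3, 6, 5, 4, 7, 8, 11, 10, 5, 4, 3, 2, 1, 6, 5, 4, 3, 2, 7, 6, 8, 10, 5, 11]

/-- The word for the generator `b`: a product of commuting transpositions. -/
def bW : List ℕ := [
  6, 2, 3, 4, 5, 10, 6, 7, 8, 5, 6, 7, 4, 5, 6, 1, 2, 3, 4, 5, 10, 11, 8, 7, 4, 5, 6, 3, 4, 5,
  10, 9, 8, 7, 6, 5, 4, 3, 2, 1, 0, 1, 2, 3, 4, 5, 6, 7, 8, 9, 10, 5, 4, 3, 6, 5, 4, 7, 8, 11,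
  10, 5, 4, 3, 2, 1, 6, 5, 4, 7, 6, 5, 8, 7, 6, 10, 5, 4, 3, 2, 6, 6, 4, 5, 10, 11, 6, 3, 4, 5,
  10, 9, 8, 6, 7, 4, 5, 6, 2, 3, 4, 5, 10, 11, 8, 7, 4, 5, 6, 3, 4, 5, 10, 9, 8, 7, 6, 5, 4, 3,
  2, 1, 0, 1, 2, 3, 4, 5, 6, 7, 8, 9, 10, 5, 4, 3, 6, 5, 4, 7, 8, 11, 10, 5, 4, 3, 2, 6, 5, 4,
  7, 6, 8, 9, 10, 5, 4, 3, 6, 11, 10, 5, 4, 6]

/-- The word for the generator `c`: a product of commuting transpositions. -/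
def cW : List ℕ := [
  4, 5, 10, 11, 8, 7, 5, 6, 4, 5, 10, 9, 8, 7, 3, 4, 5, 6, 2, 3, 4, 5, 10, 11, 7, 4, 5, 6, 3, 4,
  5, 10, 9, 8, 7, 6, 5, 4, 3, 2, 1, 0, 1, 2, 3, 4, 5, 6, 7, 8, 9, 10, 5, 4, 3, 6, 5, 4, 7, 11,
  10, 5, 4, 3, 2, 6, 5, 4, 3, 7, 8, 9, 10, 5, 4, 6, 5, 7, 8, 11, 10, 5, 4, 10, 6, 7, 5, 6, 4, 5,
  10, 5, 6, 7, 8, 4, 5, 6, 7, 3, 4, 5, 6, 2, 3, 4, 5, 10, 11, 7, 5, 6, 3, 4, 5, 10, 9, 8, 7, 6,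
  5, 4, 3, 2, 0, 1, 0, 1, 0, 2, 3, 4, 5, 6, 7, 8, 9, 10, 5, 4, 3, 6, 5, 7, 11, 10, 5, 4, 3, 2,
  6, 5, 4, 3, 7, 6, 5, 4, 8, 7, 6, 5, 10, 5, 4, 6, 5, 7, 6, 10]

/-- The word for the generator `d`: a product of commuting transpositions. -/
def dW : List ℕ := [
  7, 6, 4, 5, 10, 11, 7, 6, 3, 4, 5, 10, 9, 8, 7, 6, 5, 4, 3, 2, 1, 0, 1, 2, 3, 4, 5, 6, 7, 8,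
  9, 10, 5, 4, 3, 6, 7, 11, 10, 5, 4, 6, 7, 11, 5, 10, 4, 5, 6, 2, 3, 4, 5, 10, 11, 6, 7, 5, 6, 2,
  3, 4, 5, 10, 8, 7, 6, 5, 4, 3, 2, 0, 1, 0, 1, 0, 2, 3, 4, 5, 6, 7, 8, 10, 5, 4, 3, 2, 6, 5,
  7, 6, 11, 10, 5, 4, 3, 2, 6, 5, 4, 10, 5, 11, 11, 8, 7, 6, 5, 10, 7, 3, 4, 5, 6, 2, 3, 4, 5, 10,
  11, 7, 4, 5, 6, 3, 4, 5, 10, 9, 8, 7, 6, 5, 4, 3, 2, 0, 1, 0, 1, 0, 2, 3, 4, 5, 6, 7, 8, 9,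
  10, 5, 4, 3, 6, 5, 4, 7, 11, 10, 5, 4, 3, 2, 6, 5, 4, 3, 7, 10, 5, 6, 7, 8, 11, 8, 7, 6, 5, 10,
  7, 8, 6, 7, 4, 5, 6, 2, 3, 4, 5, 10, 11, 8, 7, 5, 6, 3, 4, 5, 10, 9, 8, 7, 6, 5, 4, 3, 2, 1,
  0, 1, 2, 3, 4, 5, 6, 7, 8, 9, 10, 5, 4, 3, 6, 5, 7, 8, 11, 10, 5, 4, 3, 2, 6, 5, 4, 7, 6, 8,
  7, 10, 5, 6, 7, 8]

/-- The word for the generator `e`: a product of commuting transpositions. -/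
def eW : List ℕ := [
  5, 10, 11, 3, 4, 5, 10, 7, 6, 5, 4, 3, 1, 2, 0, 1, 0, 1, 0, 2, 1, 3, 4, 5, 6, 7, 10, 5, 4, 3,
  11, 10, 5, 11, 5, 10, 8, 6, 7, 4, 5, 6, 1, 2, 3, 4, 5, 10, 11, 7, 5, 6, 3, 4, 5, 10, 8, 7, 6, 5,
  4, 3, 2, 1, 0, 1, 2, 3, 4, 5, 6, 7, 8, 10, 5, 4, 3, 6, 5, 7, 11, 10, 5, 4, 3, 2, 1, 6, 5, 4,
  7, 6, 8, 10, 5, 11, 8, 9, 7, 8, 6, 7, 4, 5, 6, 2, 3, 4, 5, 10, 11, 8, 6, 7, 5, 6, 3, 4, 5, 10,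
  9, 8, 7, 6, 5, 4, 3, 2, 1, 0, 1, 2, 3, 4, 5, 6, 7, 8, 9, 10, 5, 4, 3, 6, 5, 7, 6, 8, 11, 10,
  5, 4, 3, 2, 6, 5, 4, 7, 6, 8, 7, 9, 8, 6, 3, 4, 5, 10, 6, 7, 8, 5, 6, 7, 4, 5, 6, 1, 2, 3,
  4, 5, 10, 11, 6, 7, 5, 6, 2, 3, 4, 5, 10, 9, 8, 7, 6, 5, 4, 3, 2, 0, 1, 0, 1, 0, 2, 3, 4, 5,
  6, 7, 8, 9, 10, 5, 4, 3, 2, 6, 5, 7, 6, 11, 10, 5, 4, 3, 2, 1, 6, 5, 4, 7, 6, 5, 8, 7, 6, 10,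
  5, 4, 3, 6]

/-- The word for the generator `f`: a product of commuting transpositions. -/
def fW : List ℕ := [
  5, 10, 11, 3, 4, 5, 10, 7, 6, 5, 4, 3, 1, 2, 0, 1, 0, 1, 0, 2, 1, 3, 4, 5, 6, 7, 10, 5, 4, 3,
  11, 10, 5, 6, 7, 8, 5, 6, 7, 4, 5, 6, 2, 3, 4, 5, 10, 11, 6, 7, 5, 6, 4, 5, 10, 9, 8, 7, 6, 5,
  4, 3, 2, 0, 1, 0, 1, 0, 2, 3, 4, 5, 6, 7, 8, 9, 10, 5, 4, 6, 5, 7, 6, 11, 10, 5, 4, 3, 2, 6,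
  5, 4, 7, 6, 5, 8, 7, 6, 6, 3, 4, 5, 10, 6, 7, 8, 5, 6, 7, 4, 5, 6, 1, 2, 3, 4, 5, 10, 11, 6,
  7, 5, 6, 2, 3, 4, 5, 10, 9, 8, 7, 6, 5, 4, 3, 2, 0, 1, 0, 1, 0, 2, 3, 4, 5, 6, 7, 8, 9, 10,
  5, 4, 3, 2, 6, 5, 7, 6, 11, 10, 5, 4, 3, 2, 1, 6, 5, 4, 7, 6, 5, 8, 7, 6, 10, 5, 4, 3, 6, 5,
  10, 11, 10, 7, 5, 6, 4, 5, 10, 8, 6, 7, 3, 4, 5, 6, 2, 3, 4, 5, 10, 11, 7, 4, 5, 6, 3, 4, 5, 10,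
  9, 8, 7, 6, 5, 4, 3, 2, 0, 1, 0, 1, 0, 2, 3, 4, 5, 6, 7, 8, 9, 10, 5, 4, 3, 6, 5, 4, 7, 11,
  10, 5, 4, 3, 2, 6, 5, 4, 3, 7, 6, 8, 10, 5, 4, 6, 5, 7, 10, 11, 10, 5]

/-- The word for the generator `g`: a product of commuting transpositions. -/
def gW : List ℕ := [
  5, 10, 11, 3, 4, 5, 10, 7, 6, 5, 4, 3, 1, 2, 0, 1, 0, 1, 0, 2, 1, 3, 4, 5, 6, 7, 10, 5, 4, 3,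
  11, 10, 5, 11, 10, 5, 6, 4, 5, 10, 6, 7, 3, 4, 5, 6, 2, 3, 4, 5, 10, 11, 8, 7, 4, 5, 6, 3, 4, 5,
  10, 9, 8, 7, 6, 5, 4, 3, 2, 1, 0, 1, 2, 3, 4, 5, 6, 7, 8, 9, 10, 5, 4, 3, 6, 5, 4, 7, 8, 11,
  10, 5, 4, 3, 2, 6, 5, 4, 3, 7, 6, 10, 5, 4, 6, 5, 10, 11, 5, 10, 11, 6, 5, 10, 6, 7, 4, 5, 6, 2,
  3, 4, 5, 10, 11, 8, 6, 7, 4, 5, 6, 3, 4, 5, 10, 9, 8, 7, 6, 5, 4, 3, 1, 2, 0, 1, 0, 1, 0, 2,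
  1, 3, 4, 5, 6, 7, 8, 9, 10, 5, 4, 3, 6, 5, 4, 7, 6, 8, 11, 10, 5, 4, 3, 2, 6, 5, 4, 7, 6, 10,
  5, 6, 11, 10, 5, 6, 3, 4, 5, 10, 6, 7, 8, 5, 6, 7, 4, 5, 6, 1, 2, 3, 4, 5, 10, 11, 6, 7, 5, 6,
  2, 3, 4, 5, 10, 9, 8, 7, 6, 5, 4, 3, 2, 0, 1, 0, 1, 0, 2, 3, 4, 5, 6, 7, 8, 9, 10, 5, 4, 3,
  2, 6, 5, 7, 6, 11, 10, 5, 4, 3, 2, 1, 6, 5, 4, 7, 6, 5, 8, 7, 6, 10, 5, 4, 3, 6]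

/-- The words, by generator. -/
def genW : Cfsg.Spor.He.Gen → List ℕ
  | .a => aW
  | .b => bW
  | .c => cW
  | .d => dW
  | .e => eW
  | .f => fW
  | .g => gW

/-- From the base point to the points of the twelve nodes. -/
def nodeW : List (List ℕ) := [
  [],
  [1, 0],
  [1, 0, 2, 1],
  [1, 0, 2, 1, 3, 2],
  [1, 0, 2, 1, 3, 2, 4, 3],
  [1, 0, 2, 1, 3, 2, 4, 3, 5, 4],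
  [1, 0, 2, 1, 3, 2, 4, 3, 5, 4, 6, 5],
  [1, 0, 2, 1, 3, 2, 4, 3, 5, 4, 6, 5, 7, 6],
  [1, 0, 2, 1, 3, 2, 4, 3, 5, 4, 6, 5, 7, 6, 8, 7],
  [1, 0, 2, 1, 3, 2, 4, 3, 5, 4, 6, 5, 7, 6, 8, 7, 9, 8],
  [1, 0, 2, 1, 3, 2, 4, 3, 5, 4, 10, 5],
  [1, 0, 2, 1, 3, 2, 4, 3, 5, 4, 10, 5, 11, 10]]

end Cfsg.Agent.Lib.HeldFi24x99
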